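import Groth.Prelude.Def_Neron
import Groth.Agent.KrullAki.Valuation
import Groth.Agent.LineSub.Common
import Groth.Agent.SecExt.CodimOne
import Groth.Agent.WeilExt.Dedekind

/-!
# Points of proper schemes over Dedekind domains after a finite extension
-/

set_option autoImplicit false
set_option backward.isDefEq.respectTransparency false
set_option backward.isDefEq.respectTransparency.types false
set_option linter.style.haveILetI false

universe u

open CategoryTheory Limits AlgebraicGeometry

namespace Groth.Agent.DedTorsor

open KrullAki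

/-- A finite extension of the fraction field of a Dedekind domain is the fraction field of a faithfully flat
Dedekind algebra, whose generic fibre it is. -/
theorem exists_dedekind (R : Type u) [CommRing R] [IsDedekindDomain R] (L : Type u) [Field L] [Algebra R L]
    [Algebra (FractionRing R) L] [IsScalarTower R (FractionRing R) L] [FiniteDimensional (FractionRing R) L] :
    ∃ (A : Type u) (_ : CommRing A) (_ : IsDedekindDomain A) (_ : Algebra R A) (_ : Algebra A L),
      IsScalarTower R A L ∧ IsFractionRing A L ∧ (algebraMap R A).FaithfullyFlat ∧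
      IsPullback (Spec.map (CommRingCat.ofHom (algebraMap A L)))
        (Spec.map (CommRingCat.ofHom (algebraMap (FractionRing R) L)))
        (Spec.map (CommRingCat.ofHom (algebraMap R A))) (Neron.genPt R) := by
  classical
  let K := FractionRing R
  let b := Module.finBasis K L
  obtain ⟨M, hM⟩ : ∃ M : nonZeroDivisors R, ∀ i, _root_.IsIntegral R ((algebraMap R L M) * b i) := by
    have hi := fun i => IsIntegral.exists_multiple_integral_of_isLocalization
      (nonZeroDivisors R) (b i) (Algebra.IsIntegral.isIntegral (R := K) (b i))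
    choose m hm using hi
    refine ⟨∏ i, m i, fun i => ?_⟩
    obtain ⟨c, hc⟩ := Finset.dvd_prod_of_mem m (Finset.mem_univ i)
    have := (hm i).smul (c : R)
    rw [hc]
    simpa [Algebra.smul_def, Submonoid.smul_def, mul_assoc, mul_comm, mul_left_comm] using this
  let S : Subalgebra R L := Algebra.adjoin R (Set.range fun i => algebraMap R L M * b i)
  have hSfg : (Subalgebra.toSubmodule S).FG :=
    fg_adjoin_of_finite (Set.finite_range _) (by rintro _ ⟨i, rfl⟩; exact hM i)
  haveI : Module.Finite R S := Module.Finite.of_fg (N := Subalgebra.toSubmodule S) hSfg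
  have hinj : Function.Injective (algebraMap R L) := by
    rw [IsScalarTower.algebraMap_eq R K L]
    exact (algebraMap K L).injective.comp (IsFractionRing.injective R K)
  have hfrac : ∀ z : L, ∃ (x y : S), (x : L) / y = z := by
    intro z
    obtain ⟨d, hd⟩ := IsLocalization.exist_integer_multiples_of_finite (nonZeroDivisors R) (b.repr z)
    choose c hc using hd
    refine ⟨∑ i, c i • ⟨_, Algebra.subset_adjoin ⟨i, rfl⟩⟩, algebraMap R S ((d : R) * M), ?_⟩
    have hne : algebraMap R L ((d : R) * M) ≠ 0 := by
      rw [Ne, map_eq_zero_iff _ hinj]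
      exact mul_ne_zero (nonZeroDivisors.coe_ne_zero d) (nonZeroDivisors.coe_ne_zero M)
    rw [AddSubmonoidClass.coe_finsetSum, Subalgebra.coe_algebraMap, div_eq_iff hne]
    conv_rhs => rw [← b.sum_repr z, Finset.sum_mul]
    refine Finset.sum_congr rfl fun i _ => ?_
    rw [map_mul, Algebra.smul_def (b.repr z i)]
    change c i • (algebraMap R L M * b i) = _
    rw [Algebra.smul_def, IsScalarTower.algebraMap_apply R K L (c i), hc i, Algebra.smul_def, map_mul,
      ← IsScalarTower.algebraMap_apply R K L]
    ring
  haveI : IsFractionRing S L := IsFractionRing.of_field _ _ fun z => by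
    obtain ⟨x, y, h⟩ := hfrac z
    exact ⟨x, y, h.symm⟩
  haveI : IsNoetherianRing S :=
    (isNoetherian_of_tower R (inferInstance : IsNoetherian R S) : IsNoetherianRing S)
  haveI : Ring.KrullDimLE 1 S := by
    rw [Ring.krullDimLE_one_iff_of_noZeroDivisors]
    intro P hP hPp
    haveI : (P : Ideal S).IsPrime := hPp
    have : (P : Ideal S).comap (algebraMap R S) ≠ ⊥ := fun h => hP (Ideal.eq_bot_of_comap_eq_bot h)
    exact Ideal.isMaximal_of_isIntegral_of_isMaximal_comap (R := R) (S := S) P
      (Ring.krullDimLE_one_iff_of_noZeroDivisors.1 inferInstance _ this inferInstance)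
  let C := integralClosure S L
  haveI : IsNoetherianRing C := isNoetherianRing_subalgebra _
  haveI : Ring.KrullDimLE 1 C := krullDimLE_one_subalgebra _
  haveI : IsFractionRing C L := isFractionRing_subalgebra C
  haveI : IsIntegrallyClosed C := integralClosure.isIntegrallyClosedOfFiniteExtension L
  haveI : IsDedekindDomain C :=
    { maximalOfPrime := fun h hp => Ring.krullDimLE_one_iff_of_noZeroDivisors.1 inferInstance _ h hp }
  haveI : Algebra.IsIntegral R S := Algebra.IsIntegral.of_finite R S
  haveI : IsIntegralClosure C R L :=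
    { algebraMap_injective := Subtype.val_injective
      isIntegral_iff := fun {x} => ⟨fun h => ⟨⟨x, h.tower_top⟩, rfl⟩, by
        rintro ⟨y, rfl⟩
        exact isIntegral_trans (A := S) _ y.2⟩ }
  haveI : Algebra.IsIntegral R C := IsIntegralClosure.isIntegral_algebra R L
  haveI : Algebra.IsAlgebraic K L := Algebra.IsAlgebraic.of_finite K L
  haveI := IsIntegralClosure.isLocalization R K L C
  refine ⟨C, inferInstance, inferInstance, inferInstance, inferInstance, inferInstance, inferInstance,
    LineSub.faithfullyFlat_of_integral _ (fun a b h => hinj ?_) Algebra.IsIntegral.isIntegral, ?_⟩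
  · rw [IsScalarTower.algebraMap_apply R C L, h, ← IsScalarTower.algebraMap_apply]
  exact isPullback_SpecMap_of_isPushout _ _ _ _
    (CommRingCat.isPushout_iff_isPushout.mpr
      (Algebra.isPushout_of_isLocalization (nonZeroDivisors R) K C L))

/-- A point of a proper scheme over a Dedekind domain with values in the fraction field extends. -/
theorem extend_point (A : Type u) [CommRing A] [IsDedekindDomain A] (L : Type u) [Field L] [Algebra A L]
    [IsFractionRing A L] {Z : Scheme.{u}} (f : Z ⟶ Spec (CommRingCat.of A)) [IsProper f]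
    (x : Spec (CommRingCat.of L) ⟶ Z) (hx : x ≫ f = Spec.map (CommRingCat.ofHom (algebraMap A L))) :
    ∃ s : Spec (CommRingCat.of A) ⟶ Z, s ≫ f = 𝟙 _ ∧ Spec.map (CommRingCat.ofHom (algebraMap A L)) ≫ s = x := by
  haveI : IsNoetherianRing (CommRingCat.of A) := inferInstanceAs (IsNoetherianRing A)
  haveI : IsDomain (CommRingCat.of A) := inferInstanceAs (IsDomain A)
  haveI : IsFractionRing (CommRingCat.of A) L := ‹IsFractionRing A L›
  obtain ⟨σ, hσ, hσe⟩ := WeilExt.exists_iso_generic (CommRingCat.of A) L
  haveI := hσ
  let Y := Spec (CommRingCat.of A)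
  let η := genericPoint Y
  obtain ⟨V, hηV, k, hk, hk'⟩ := spread_out_of_isGermInjective' (sX := 𝟙 Y) f (σ ≫ x) (x := η) (by
    rw [Category.assoc, hx, hσe, Category.comp_id])
  have hV : Dense (V : Set Y) :=
    ((genericPoint_spec Y).mem_open_set_iff V.2).1 hηV |> fun h => dense_iff_inter_open.2 fun O hO hne => by
      obtain ⟨o, ho⟩ := hne
      exact ⟨η, ((genericPoint_spec Y).mem_open_set_iff hO).2 ⟨o, trivial, ho⟩, hηV⟩
  obtain ⟨U, hVU, s', hs', hres, hU⟩ := SecExt.exists_extension
    (fun y _ => WeilExt.isRegularLocalRing_stalk_spec y) f f.isClosedMap V hV k (by rw [hk']; exact Category.comp_id _)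
  have htop : U = ⊤ := by
    refine eq_top_iff.2 fun y _ => hU y ?_
    let e : (Spec (CommRingCat.of A)).presheaf.stalk y ≃+* Localization.AtPrime y.asIdeal :=
      (IsLocalization.algEquiv y.asIdeal.primeCompl (Localization.AtPrime y.asIdeal)
        ((Spec.structureSheaf A).presheaf.stalk y)).toRingEquiv.symm
    rw [ringKrullDim_eq_of_ringEquiv e]
    exact le_trans (IsLocalization.AtPrime.ringKrullDim_eq_height y.asIdeal _).le
      ((Ideal.height_le_ringKrullDim_of_ne_top y.2.ne_top).trans (Ring.krullDimLE_iff.1 inferInstance))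
  subst htop
  refine ⟨Y.topIso.inv ≫ s', ?_, ?_⟩
  · rw [Category.assoc, hs', ← Scheme.topIso_hom]
    exact Y.topIso.inv_hom_id
  · rw [← cancel_epi σ, reassoc_of% hσe]
    have h1 : Y.fromSpecStalk η ≫ Y.topIso.inv = V.fromSpecStalkOfMem η hηV ≫ Y.homOfLE hVU := by
      rw [← cancel_mono (⊤ : Y.Opens).ι, Category.assoc, Category.assoc, Scheme.homOfLE_ι,
        Scheme.Opens.fromSpecStalkOfMem_ι, ← Scheme.topIso_hom, Y.topIso.inv_hom_id, Category.comp_id]
    rw [reassoc_of% h1, hres, hk]

end Groth.Agent.DedTorsor
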