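import Groth.Agent.DedTorsor.Basic
import Groth.Agent.NeronBasic.Basic
import Groth.Agent.SchTorsor.Props
import Groth.Prelude.Def_ActBC
import Mathlib.AlgebraicGeometry.Sites.Fpqc

/-!
# Equivariant maps of torsors under proper flat groups extend from the generic fibre
-/

set_option autoImplicit false
set_option backward.isDefEq.respectTransparency false
set_option backward.isDefEq.respectTransparency.types false
set_option linter.style.haveILetI false
set_option maxHeartbeats 1000000
set_option synthInstance.maxHeartbeats 200000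

universe u

open CategoryTheory Limits MonoidalCategory CartesianMonoidalCategory MonObj AlgebraicGeometry

namespace Groth.Agent.DedTorsor

variable {R : Type u} [CommRing R] [IsDedekindDomain R]

local notation "SR" => Spec (CommRingCat.of R)
local notation "gK" => Neron.genPt R

/-- Morphisms from a flat scheme to a separated one are determined on points factoring through the generic point. -/
theorem ext_gen {Z Y : Over SR} [Flat Z.hom] [IsSeparated Y.hom] (f g : Z ⟶ Y)
    (h : ∀ (W : Over (Spec (CommRingCat.of (FractionRing R)))) (z : (Over.map gK).obj W ⟶ Z), z ≫ f = z ≫ g) :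
    f = g := by
  apply NeronBasic.eq_of_map_genericFibre R Z Y
  let he := (Over.mapPullbackAdj gK).homEquiv (Red.bc gK Z) Y
  have e : ∀ k : Z ⟶ Y, (Over.pullback gK).map k = he ((Over.mapPullbackAdj gK).counit.app Z ≫ k) := fun k => by
    show _ = (Over.mapPullbackAdj gK).homEquiv _ _ _
    rw [Adjunction.homEquiv_unit, Functor.map_comp]
    exact ((Over.mapPullbackAdj gK).right_triangle_components_assoc Z _).symm
  show (Over.pullback gK).map f = (Over.pullback gK).map g
  rw [e, e, h]

set_option maxHeartbeats 4000000 in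
/-- An equivariant morphism of the generic fibres of torsors under a proper flat group extends. -/
theorem exists_equivariant {G X Y : Over SR} [GrpObj G] [IsProper G.hom] [Flat G.hom]
    [IsProper X.hom] [Flat X.hom] [Surjective X.hom] [IsProper Y.hom] [Flat Y.hom] [Surjective Y.hom]
    (a : AlgGrp.Action G X) (b : AlgGrp.Action G Y)
    (ha : NonAbH1.IsPseudoTorsorSch a) (hb : NonAbH1.IsPseudoTorsorSch b)
    (e : Red.bc gK X ⟶ Red.bc gK Y) (he' : (a.bc gK).act ≫ e = (Red.bc gK G ◁ e) ≫ (b.bc gK).act) :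
    ∃ f : X ⟶ Y, a.act ≫ f = (G ◁ f) ≫ b.act := by
  let K := FractionRing R
  -- the map on generic points
  let φ : ∀ {W : Over (Spec (CommRingCat.of K))}, ((Over.map gK).obj W ⟶ X) → ((Over.map gK).obj W ⟶ Y) :=
    fun {W} p => ((Over.mapPullbackAdj gK).homEquiv W Y).symm ((Over.mapPullbackAdj gK).homEquiv W X p ≫ e)
  have hφnat : ∀ {W W' : Over (Spec (CommRingCat.of K))} (k : W' ⟶ W) (p : (Over.map gK).obj W ⟶ X),
      φ ((Over.map gK).map k ≫ p) = (Over.map gK).map k ≫ φ p := fun {W W'} k p => by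
    show ((Over.mapPullbackAdj gK).homEquiv W' Y).symm _ = _
    rw [Adjunction.homEquiv_naturality_left, Category.assoc, Adjunction.homEquiv_naturality_left_symm]
  have hφeq : ∀ {W : Over (Spec (CommRingCat.of K))} (γ₀ : (Over.map gK).obj W ⟶ G) (p : (Over.map gK).obj W ⟶ X),
      φ (lift γ₀ p ≫ a.act) = lift γ₀ (φ p) ≫ b.act := fun {W} γ₀ p => by
    apply ((Over.mapPullbackAdj gK).homEquiv W Y).injective
    rw [← AlgGrp.Action.lift_homEquiv_bc_act]
    simp only [φ, Equiv.apply_symm_apply]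
    rw [← AlgGrp.Action.lift_homEquiv_bc_act, Category.assoc, he', lift_whiskerLeft_assoc]
  -- a finite extension with points
  obtain ⟨L, _, _, _, _, _, xL, yL, hxL, hyL⟩ : ∃ (L : Type u) (_ : Field L) (_ : Algebra R L)
      (_ : Algebra K L) (_ : IsScalarTower R K L) (_ : FiniteDimensional K L)
      (xL : Spec (CommRingCat.of L) ⟶ X.left) (yL : Spec (CommRingCat.of L) ⟶ Y.left),
      xL ≫ X.hom = Spec.map (CommRingCat.ofHom (algebraMap R L)) ∧
      yL ≫ Y.hom = Spec.map (CommRingCat.ofHom (algebraMap R L)) := by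
    let W := pullback (pullback.fst X.hom Y.hom ≫ X.hom) gK
    let w : W ⟶ Spec (CommRingCat.of K) := pullback.snd _ _
    haveI : Surjective (pullback.fst X.hom Y.hom ≫ X.hom) := inferInstance
    haveI : Surjective w := inferInstance
    haveI : LocallyOfFiniteType w := inferInstance
    haveI : Nonempty W := ⟨(w.surjective (IsLocalRing.closedPoint K)).choose⟩
    obtain ⟨V, hV⟩ : ∃ V : W.Opens, IsAffineOpen V ∧ (V : Set W).Nonempty := by
      obtain ⟨x⟩ := (inferInstance : Nonempty W)
      obtain ⟨_, ⟨V, hV, rfl⟩, hx, -⟩ := W.isBasis_affineOpens.exists_subset_of_mem_open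
        (Set.mem_univ x) isOpen_univ
      exact ⟨V, hV, x, hx⟩
    let B := Γ(W, V)
    let α : CommRingCat.of K ⟶ B := (Scheme.ΓSpecIso _).inv ≫ w.appLE ⊤ V le_top
    have hα : α.hom.FiniteType := by
      show ((w.appLE ⊤ V le_top).hom.comp (Scheme.ΓSpecIso (CommRingCat.of K)).inv.hom).FiniteType
      exact (LocallyOfFiniteType.finiteType_appLE w (isAffineOpen_top _) hV.1 le_top).comp
        (RingHom.FiniteType.of_surjective _ (ConcreteCategory.bijective_of_isIso _).2)
    algebraize [α.hom]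
    haveI : Nontrivial B := by
      haveI : Nonempty V := hV.2.to_subtype
      exact inferInstanceAs (Nontrivial Γ(W, V))
    obtain ⟨m, hm⟩ := Ideal.exists_maximal B
    let L := B ⧸ m
    letI : Field L := Ideal.Quotient.field m
    haveI : Algebra.FiniteType K L := Algebra.FiniteType.of_surjective (Ideal.Quotient.mkₐ K m) Ideal.Quotient.mk_surjective
    haveI : Module.Finite K L := finite_of_finite_type_of_isJacobsonRing K L
    letI : Algebra R L := ((algebraMap K L).comp (algebraMap R K)).toAlgebra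
    haveI : IsScalarTower R K L := IsScalarTower.of_algebraMap_eq' rfl
    let p : Spec (CommRingCat.of L) ⟶ W := Spec.map (CommRingCat.ofHom (Ideal.Quotient.mk m)) ≫ hV.1.fromSpec
    have hp : p ≫ w = Spec.map (CommRingCat.ofHom (algebraMap K L)) := by
      have : hV.1.fromSpec ≫ w = Spec.map α := by
        simp only [α, Spec.map_comp]
        rw [← IsAffineOpen.SpecMap_appLE_fromSpec w (isAffineOpen_top _) hV.1 le_top]
        congr 1
        rw [IsAffineOpen.fromSpec_top, Scheme.isoSpec_Spec_inv]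
      simp only [p, Category.assoc, this, ← Spec.map_comp]
      rfl
    have hp' : (p ≫ pullback.fst _ _) ≫ pullback.fst X.hom Y.hom ≫ X.hom =
        Spec.map (CommRingCat.ofHom (algebraMap R L)) := by
      rw [Category.assoc, pullback.condition, ← Category.assoc, hp, ← Spec.map_comp]
      rfl
    refine ⟨L, inferInstance, inferInstance, inferInstance, inferInstance, inferInstance,
      (p ≫ pullback.fst _ _) ≫ pullback.fst X.hom Y.hom, (p ≫ pullback.fst _ _) ≫ pullback.snd X.hom Y.hom, ?_, ?_⟩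
    · rw [Category.assoc]; exact hp'
    · rw [Category.assoc, ← pullback.condition]; exact hp'
  obtain ⟨A, _, _, _, _, hT, hFrac, hff, hpb⟩ := exists_dedekind R L
  haveI := hT; haveI := hFrac
  let t : Spec (CommRingCat.of A) ⟶ SR := Spec.map (CommRingCat.ofHom (algebraMap R A))
  haveI : Flat t := Flat.SpecMap_iff.2 hff.flat
  haveI : Surjective t := ⟨(RingHom.FaithfullyFlat.iff_flat_and_comap_surjective.1 hff).2⟩
  let T : Over SR := Over.mk t
  let ηL : Over (Spec (CommRingCat.of K)) := Over.mk (Spec.map (CommRingCat.ofHom (algebraMap K L)))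
  let Tη : Over SR := (Over.map gK).obj ηL
  let j : Tη ⟶ T := Over.homMk (Spec.map (CommRingCat.ofHom (algebraMap A L))) hpb.w
  have hfac : ∀ {W : Over (Spec (CommRingCat.of K))} (z : (Over.map gK).obj W ⟶ T),
      ∃ k : W ⟶ ηL, (Over.map gK).map k ≫ j = z := fun {W} z =>
    ⟨Over.homMk (hpb.lift z.left W.hom (Over.w z)) (hpb.lift_snd _ _ _),
      Over.OverMorphism.ext (hpb.lift_fst _ _ _)⟩
  have hext : ∀ (Z : Over SR) [IsProper Z.hom] (g : Tη ⟶ Z), ∃ s : T ⟶ Z, j ≫ s = g := by
    intro Z _ g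
    obtain ⟨s, hs, hs'⟩ := extend_point A L (pullback.snd Z.hom t)
      (pullback.lift g.left (Spec.map (CommRingCat.ofHom (algebraMap A L))) ((Over.w g).trans hpb.w.symm))
      (pullback.lift_snd _ _ _)
    refine ⟨Over.homMk (s ≫ pullback.fst _ _) (by
      rw [Category.assoc, pullback.condition, reassoc_of% hs]; rfl), Over.OverMorphism.ext ?_⟩
    show Spec.map (CommRingCat.ofHom (algebraMap A L)) ≫ s ≫ pullback.fst _ _ = g.left
    rw [reassoc_of% hs', pullback.lift_fst]
  have hw : ∀ {Z : Over SR} (zL : Spec (CommRingCat.of L) ⟶ Z.left),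
      zL ≫ Z.hom = Spec.map (CommRingCat.ofHom (algebraMap R L)) → zL ≫ Z.hom = Tη.hom := fun zL h => by
    rw [h]
    show _ = Spec.map _ ≫ Spec.map _
    rw [← Spec.map_comp]
    congr 1
    exact CommRingCat.hom_ext (IsScalarTower.algebraMap_eq R K L)
  obtain ⟨x, -⟩ := hext X (Over.homMk xL (hw xL hxL))
  obtain ⟨y, -⟩ := hext Y (Over.homMk yL (hw yL hyL))
  obtain ⟨g₁, hg₁⟩ := SchTorsor.exists_div hb (φ (j ≫ x)) (j ≫ y)
  obtain ⟨g₀, hg₀⟩ := hext G g₁
  -- the map over the cover
  obtain ⟨d, hd⟩ := SchTorsor.exists_div ha (fst X T) (snd X T ≫ x)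
  let ψ : X ⊗ T ⟶ Y := lift (d * (snd X T ≫ g₀)) (snd X T ≫ y) ≫ b.act
  have hψ : ∀ {W : Over (Spec (CommRingCat.of K))} (z : (Over.map gK).obj W ⟶ X ⊗ T),
      z ≫ ψ = φ (z ≫ fst X T) := fun {W} z => by
    obtain ⟨k, hk⟩ := hfac (z ≫ snd X T)
    have h1 : lift (z ≫ snd X T ≫ g₀) (z ≫ snd X T ≫ y) ≫ b.act = φ (z ≫ snd X T ≫ x) := by
      rw [← reassoc_of% hk, ← reassoc_of% hk, ← reassoc_of% hk, hg₀, ← comp_lift_assoc, hg₁, hφnat]
    have h2 : z ≫ ψ = lift (z ≫ d) (φ (z ≫ snd X T ≫ x)) ≫ b.act := by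
      rw [← h1, ← SchTorsor.act_assoc]
      simp only [ψ, comp_lift_assoc, MonObj.comp_mul]
    rw [h2, ← hφeq, ← comp_lift_assoc, hd]
  clear_value ψ
  -- descent
  haveI : IsAffineHom t := inferInstance
  haveI : Flat (pullback.fst X.hom t) := inferInstance
  haveI : Surjective (pullback.fst X.hom t) := inferInstance
  haveI : QuasiCompact (pullback.fst X.hom t) := inferInstance
  haveI : EffectiveEpi (fst X T).left := inferInstanceAs (EffectiveEpi (pullback.fst X.hom t))
  haveI hflatXT : Flat (X ⊗ T).hom := inferInstanceAs (Flat (pullback.fst X.hom t ≫ X.hom))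
  have hcoc : ∀ {P : Scheme.{u}} (g₁ g₂ : P ⟶ (X ⊗ T).left), g₁ ≫ (fst X T).left = g₂ ≫ (fst X T).left →
      g₁ ≫ ψ.left = g₂ ≫ ψ.left := by
    intro P g₁ g₂ h
    let Z : Over SR := Over.mk (pullback.fst (fst X T).left (fst X T).left ≫ (X ⊗ T).hom)
    let p₁ : Z ⟶ X ⊗ T := Over.homMk (pullback.fst (fst X T).left (fst X T).left) rfl
    let p₂ : Z ⟶ X ⊗ T := Over.homMk (pullback.snd (fst X T).left (fst X T).left) (by
      show _ ≫ (X ⊗ T).hom = _ ≫ (X ⊗ T).hom
      rw [← Over.w (fst X T), pullback.condition_assoc])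
    haveI : Flat (fst X T).left := inferInstanceAs (Flat (pullback.fst X.hom t))
    haveI : Flat Z.hom := inferInstanceAs (Flat (pullback.fst (fst X T).left (fst X T).left ≫ (X ⊗ T).hom))
    have hp : p₁ ≫ ψ = p₂ ≫ ψ := ext_gen _ _ fun W z => by
      rw [← Category.assoc, ← Category.assoc, hψ, hψ]
      congr 1
      simp only [Category.assoc]
      congr 1
      exact Over.OverMorphism.ext pullback.condition
    have := congrArg (fun q : Z ⟶ Y => pullback.lift g₁ g₂ h ≫ q.left) hp
    simpa [p₁, p₂] using this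
  let fl : X.left ⟶ Y.left := EffectiveEpi.desc (fst X T).left ψ.left hcoc
  have hfl : (fst X T).left ≫ fl = ψ.left := EffectiveEpi.fac _ _ _
  let f : X ⟶ Y := Over.homMk fl (by
    rw [← cancel_epi (fst X T).left, reassoc_of% hfl, Over.w, Over.w])
  have hf : fst X T ≫ f = ψ := Over.OverMorphism.ext hfl
  refine ⟨f, ?_⟩
  haveI : Epi (fst (G ⊗ X) T) := by
    haveI : Flat (pullback.fst (G ⊗ X).hom t) := inferInstance
    haveI : Surjective (pullback.fst (G ⊗ X).hom t) := inferInstance
    haveI : QuasiCompact (pullback.fst (G ⊗ X).hom t) := inferInstance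
    haveI : EffectiveEpi (fst (G ⊗ X) T).left := inferInstanceAs (EffectiveEpi (pullback.fst (G ⊗ X).hom t))
    haveI : Epi ((Over.forget _).map (fst (G ⊗ X) T)) := inferInstanceAs (Epi (fst (G ⊗ X) T).left)
    exact (Over.forget _).epi_of_epi_map inferInstance
  rw [← cancel_epi (fst (G ⊗ X) T)]
  haveI : Flat (G ⊗ X).hom := inferInstanceAs (Flat (pullback.fst G.hom X.hom ≫ G.hom))
  haveI : Flat ((G ⊗ X) ⊗ T).hom := inferInstanceAs (Flat (pullback.fst (G ⊗ X).hom t ≫ (G ⊗ X).hom))
  refine ext_gen _ _ fun W z => ?_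
  let u₀ : (G ⊗ X) ⊗ T ⟶ X ⊗ T := lift (fst _ _ ≫ a.act) (snd _ _)
  let v₀ : (G ⊗ X) ⊗ T ⟶ X ⊗ T := lift (fst _ _ ≫ snd _ _) (snd _ _)
  have hu : fst _ _ ≫ a.act ≫ f = u₀ ≫ ψ := by
    rw [← hf, ← Category.assoc u₀, lift_fst, Category.assoc]
  have hv : fst _ _ ≫ (G ◁ f) ≫ b.act = lift (fst (G ⊗ X) T ≫ fst G X) (v₀ ≫ ψ) ≫ b.act := by
    rw [← Category.assoc]
    congr 1
    apply CartesianMonoidalCategory.hom_ext
    · simp
    · rw [← hf, ← Category.assoc v₀]
      simp [v₀]
  rw [hu, hv, ← Category.assoc, hψ, comp_lift_assoc, ← Category.assoc z v₀, hψ, ← hφeq]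
  congr 1
  simp only [u₀, v₀, Category.assoc, lift_fst, comp_lift_assoc]
  rw [← comp_lift_assoc]
  congr 1
  rw [← comp_lift]
  congr 1
  exact CartesianMonoidalCategory.hom_ext _ _ (by simp) (by simp)

end Groth.Agent.DedTorsor
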